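import Mathlib
import Cfsg.Agent.Lib.Helper51.TIH.Defs

/-!
# TIH (S4118): package [QUOT]

`G = O N_G(H)`, `H` a normal Hall subgroup of `N = N_G(H)`, `A` a complement of `H` in `N`
(Schur-Zassenhaus): if `⁅A, A⁆` centralizes `H` then `G / O H` is abelian.
-/

set_option autoImplicit false

namespace Cfsg.Agent.Lib.Helper27.TIH

open Cfsg.Agent.Lib.Helper51.TIH
open scoped commutatorElement

universe u

/-- **[QUOT]** -/
theorem pkgQuot : PkgQuot.{u} := by
  intro G _ _ H O hCore hON hM hcop hA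
  obtain ⟨hOn, hOcop, hOmax⟩ := hCore
  have hHN : H ≤ Subgroup.normalizer (H : Set G) := Subgroup.le_normalizer
  generalize hNdef : Subgroup.normalizer (H : Set G) = N at hON hcop hA hHN
  -- Schur-Zassenhaus
  have hnorm : (H.subgroupOf N).Normal := by
    rw [← hNdef]; exact Subgroup.normal_in_normalizer
  have hcard : Nat.card (H.subgroupOf N) = Nat.card H :=
    Nat.card_congr (Subgroup.subgroupOfEquivOfLe hHN).toEquiv
  have hcop' : Nat.Coprime (Nat.card (H.subgroupOf N)) (H.subgroupOf N).index := by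
    rw [hcard]; exact hcop
  obtain ⟨A₀, hA₀⟩ := Subgroup.exists_right_complement'_of_coprime hcop'
  have hAN : A₀.map N.subtype ≤ N := by
    rintro _ ⟨a, _, rfl⟩
    exact a.2
  have hAcard : Nat.card (A₀.map N.subtype) = (H.subgroupOf N).index := by
    rw [Subgroup.card_map_of_injective N.subtype_injective]
    exact (hA₀.symm.index_eq_card).symm
  generalize hAdef : A₀.map N.subtype = A at hAN hAcard
  have hAcop : (Nat.card A).Coprime (Nat.card H) := by
    rw [hAcard]; exact hcop.symm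
  have hHA : N ≤ H ⊔ A := by
    have h1 := hA₀.sup_eq_top
    have h2 := congrArg (Subgroup.map N.subtype) h1
    rw [Subgroup.map_sup, Subgroup.map_subgroupOf_eq_of_le hHN, hAdef,
      ← MonoidHom.range_eq_map, Subgroup.range_subtype] at h2
    exact h2.ge
  have hBc : ⁅A, A⁆ ≤ Subgroup.centralizer (H : Set G) := hA A hAN hAcop
  have hBA : ⁅A, A⁆ ≤ A := by
    rw [Subgroup.commutator_le]
    intro g₁ h₁ g₂ h₂
    rw [commutatorElement_def]
    exact A.mul_mem (A.mul_mem (A.mul_mem h₁ h₂) (A.inv_mem h₁)) (A.inv_mem h₂)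
  generalize hBdef : ⁅A, A⁆ = B at hBc hBA
  -- `O ⊔ B` is normal
  have hOBn : (O ⊔ B).Normal := by
    rw [← Subgroup.normalizer_eq_top_iff, eq_top_iff, ← hON]
    have hkey : ∀ g : G, g ∈ Subgroup.normalizer (B : Set G) →
        g ∈ Subgroup.normalizer ((O ⊔ B : Subgroup G) : Set G) := by
      intro g hg
      rw [Subgroup.mem_normalizer_iff_map_conj_eq] at hg ⊢
      have hgO : O.map (MulAut.conj g) = O := by
        rw [← Subgroup.mem_normalizer_iff_map_conj_eq, Subgroup.normalizer_eq_top_iff.mpr hOn]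
        exact Subgroup.mem_top g
      rw [Subgroup.map_sup, hgO, hg]
    have h1 : O ≤ Subgroup.normalizer ((O ⊔ B : Subgroup G) : Set G) :=
      le_sup_left.trans Subgroup.le_normalizer
    have h2 : H ≤ Subgroup.normalizer ((O ⊔ B : Subgroup G) : Set G) := by
      intro h hh
      apply hkey
      apply Subgroup.centralizer_le_normalizer
      rw [Subgroup.mem_centralizer_iff]
      intro b hb
      have := Subgroup.mem_centralizer_iff.mp (hBc hb) h hh
      exact this.symm
    have h3 : A ≤ Subgroup.normalizer ((O ⊔ B : Subgroup G) : Set G) := by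
      intro a ha
      apply hkey
      rw [Subgroup.mem_normalizer_iff_map_conj_eq, ← hBdef, Subgroup.map_commutator]
      have haA : A.map (MulAut.conj a) = A := by
        rw [← Subgroup.mem_normalizer_iff_map_conj_eq]
        exact Subgroup.le_normalizer ha
      rw [haA]
    exact sup_le h1 (hHA.trans (sup_le h2 h3))
  -- `O ⊔ B` has order coprime to `|H|`
  have hOBcop : (Nat.card (O ⊔ B : Subgroup G)).Coprime (Nat.card H) := by
    have e1 : Nat.card O * O.relIndex (O ⊔ B) = Nat.card (O ⊔ B : Subgroup G) := by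
      have := Subgroup.relIndex_mul_relIndex (H := (⊥ : Subgroup G)) (K := O) (L := O ⊔ B)
        bot_le le_sup_left
      rwa [Subgroup.relIndex_bot_left, Subgroup.relIndex_bot_left] at this
    have e2 : O.relIndex (O ⊔ B) = O.relIndex B := Subgroup.relIndex_sup_left B O
    rw [← e1, e2]
    apply Nat.Coprime.mul_left hOcop
    have h4 : O.relIndex B ∣ Nat.card A :=
      (Subgroup.relIndex_dvd_card O B).trans (Subgroup.card_dvd_of_le hBA)
    exact Nat.Coprime.coprime_dvd_left h4 hAcop
  have hBO : B ≤ O := le_sup_right.trans (hOmax (O ⊔ B) hOBn hOBcop)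
  -- the quotient is abelian
  have hMi := hM
  rw [← Subgroup.Normal.quotient_commutative_iff_commutator_le]
  have hsur : A.map (QuotientGroup.mk' (O ⊔ H)) = ⊤ := by
    have h5 : (O ⊔ H) ⊔ A = ⊤ := by
      rw [eq_top_iff, ← hON]
      exact sup_le (le_sup_left.trans le_sup_left)
        (hHA.trans (sup_le (le_sup_right.trans le_sup_left) le_sup_right))
    have h6 := congrArg (Subgroup.map (QuotientGroup.mk' (O ⊔ H))) h5
    rw [Subgroup.map_sup, Subgroup.map_top_of_surjective _ (QuotientGroup.mk'_surjective _)] at h6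
    have h7 : (O ⊔ H).map (QuotientGroup.mk' (O ⊔ H)) = ⊥ := by
      rw [eq_bot_iff]
      rintro _ ⟨m, hm, rfl⟩
      rw [Subgroup.mem_bot]
      exact (QuotientGroup.eq_one_iff m).mpr hm
    rwa [h7, bot_sup_eq] at h6
  refine ⟨⟨fun x y => ?_⟩⟩
  have hx : x ∈ A.map (QuotientGroup.mk' (O ⊔ H)) := by rw [hsur]; exact Subgroup.mem_top x
  have hy : y ∈ A.map (QuotientGroup.mk' (O ⊔ H)) := by rw [hsur]; exact Subgroup.mem_top y
  obtain ⟨a₁, ha₁, rfl⟩ := hx
  obtain ⟨a₂, ha₂, rfl⟩ := hy
  rw [← map_mul, ← map_mul]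
  show ((a₁ * a₂ : G) : G ⧸ (O ⊔ H)) = ((a₂ * a₁ : G) : G ⧸ (O ⊔ H))
  rw [QuotientGroup.eq]
  have h8 : (a₁ * a₂)⁻¹ * (a₂ * a₁) = ⁅a₂⁻¹, a₁⁻¹⁆ := by
    rw [commutatorElement_def]; group
  rw [h8]
  apply le_sup_left (a := O) (b := H)
  apply hBO
  rw [← hBdef]
  exact Subgroup.commutator_mem_commutator (A.inv_mem ha₂) (A.inv_mem ha₁)

end Cfsg.Agent.Lib.Helper27.TIH
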